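import Groth.Agent.FlatInj.Basic
import Groth.Agent.FlatModel.Open
import Groth.Agent.DevEtale.Loci
import Groth.Agent.FlatClosed.Basic
import Groth.Agent.FlatSyz5.Colim

/-! Flatness of a localised finitely presented module over the union of a chain of ideals descends to a member. -/

set_option autoImplicit false
set_option backward.isDefEq.respectTransparency false
set_option linter.style.haveILetI false

universe u

noncomputable section

open TensorProduct

namespace Groth.Agent.FlatInj

/-- An additive equivalence which is linear over a ring is linear over any quotient of it. -/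
theorem flat_iff_of_equiv_quotient {A C X Y : Type u} [CommRing A] [CommRing C] [Algebra A C]
    (hs : Function.Surjective (algebraMap A C)) [AddCommGroup X] [Module A X] [Module C X] [IsScalarTower A C X]
    [AddCommGroup Y] [Module A Y] [Module C Y] [IsScalarTower A C Y] (e : X ≃ₗ[A] Y) :
    Module.Flat C X ↔ Module.Flat C Y := by
  refine Module.Flat.equiv_iff ({ e with map_smul' := fun c x => ?_ } : X ≃ₗ[C] Y)
  obtain ⟨a, rfl⟩ := hs c
  show e (algebraMap A C a • x) = algebraMap A C a • e x
  rw [algebraMap_smul, algebraMap_smul, map_smul]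

/-- A localisation of a flat module is flat. -/
theorem flat_localizedModule {A R M : Type u} [CommRing A] [CommRing R] [Algebra A R] [AddCommGroup M] [Module R M]
    [Module A M] [IsScalarTower A R M] [Module.Flat A M] (S : Submonoid R) : Module.Flat A (LocalizedModule S M) := by
  rw [Module.Flat.iff_lTensor_injectiveₛ]
  intro P _ _ N
  have h := Module.Flat.lTensor_preserves_injective_linearMap (M := M) N.subtype Subtype.val_injective
  rw [← AlgebraTensorModule.coe_lTensor (A := R)] at h ⊢
  rw [← IsLocalizedModule.map_lTensor (S := S) (f := N.subtype) (g := LocalizedModule.mkLinearMap S M)]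
  exact IsLocalizedModule.map_injective _ _ _ _ h

variable {A P : Type u} [CommRing A] [CommRing P] [Algebra A P]

/-- Localisation commutes with base change to a quotient, for flatness. -/
theorem flat_localized_quot_iff {C PC G GC L : Type u} [CommRing C] [Algebra A C]
    (hs : Function.Surjective (algebraMap A C)) [CommRing PC] [Algebra P PC] [Algebra C PC] [Algebra A PC]
    [IsScalarTower A P PC] [IsScalarTower A C PC] [Algebra.IsPushout A P C PC]
    [AddCommGroup G] [Module P G] [Module A G] [IsScalarTower A P G]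
    [AddCommGroup GC] [Module PC GC] [Module P GC] [IsScalarTower P PC GC] [Module C GC] [IsScalarTower C PC GC]
    [Module A GC] [IsScalarTower A C GC] [IsScalarTower A P GC]
    (f : G →ₗ[P] GC) (hf : IsBaseChange PC f)
    [AddCommGroup L] [Module P L] [Module A L] [IsScalarTower A P L] (W : Submonoid P) (l : G →ₗ[P] L)
    [IsLocalizedModule W l] :
    Module.Flat C (LocalizedModule (W.map (algebraMap P PC)) GC) ↔ Module.Flat C (C ⊗[A] L) := by
  haveI : Algebra.IsPushout A C P PC := Algebra.IsPushout.symm inferInstance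
  haveI : SMulCommClass P C GC := ⟨fun b a x => by
    rw [← algebraMap_smul PC b, ← algebraMap_smul PC a, ← algebraMap_smul PC a, ← algebraMap_smul PC b, smul_comm]⟩
  let m : G ⊗[A] C →ₗ[P] GC :=
    AlgebraTensorModule.lift
      { toFun := fun n => (LinearMap.toSpanSingleton C GC (f n)).restrictScalars A
        map_add' := fun x y => by
          ext a
          simp
        map_smul' := fun b x => by
          ext a
          simp [smul_comm b a] }
  have hmb : Function.Bijective m := by
    let E : GC ≃ₗ[C] C ⊗[A] G :=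
      (hf.equiv.restrictScalars C).symm ≪≫ₗ Algebra.IsPushout.cancelBaseChange A C P PC G
    have hm : ∀ w, m w = E.symm (TensorProduct.comm A G C w) := by
      intro w
      induction w using TensorProduct.induction_on with
      | zero => rw [map_zero, map_zero, map_zero]
      | add x y hx hy => rw [map_add, map_add, map_add, hx, hy]
      | tmul n a =>
        show a • f n = hf.equiv ((Algebra.IsPushout.cancelBaseChange A C P PC G).symm (a ⊗ₜ n))
        rw [Algebra.IsPushout.cancelBaseChange_symm_tmul, IsBaseChange.equiv_tmul, algebraMap_smul]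
    rw [show ⇑m = E.symm ∘ TensorProduct.comm A G C from funext hm]
    exact E.symm.bijective.comp (TensorProduct.comm A G C).bijective
  let lC : GC →ₗ[P] L ⊗[A] C :=
    (AlgebraTensorModule.rTensor A C l) ∘ₗ (LinearEquiv.ofBijective m hmb).symm.toLinearMap
  haveI : IsLocalizedModule W lC := IsLocalizedModule.of_linearEquiv_right W _ _
  let W' := W.map (algebraMap P PC)
  haveI : IsScalarTower A PC GC := IsScalarTower.of_algebraMap_smul fun a x => by
    rw [IsScalarTower.algebraMap_apply A P PC, algebraMap_smul, algebraMap_smul]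
  haveI : IsScalarTower A P (LocalizedModule W' GC) := IsScalarTower.to₁₂₄ A P PC _
  haveI : IsScalarTower A C (LocalizedModule W' GC) := IsScalarTower.to₁₂₄ A C PC _
  haveI := DevEtale.isLocalizedModule_restrict W W'
    (fun d hd => Submonoid.mem_map_of_mem _ hd) (fun z ⟨d, hd, hz⟩ => ⟨1, d, hd, by rw [mul_one]; exact hz.symm⟩)
    (LocalizedModule.mkLinearMap W' GC)
  let e : LocalizedModule W' GC ≃ₗ[A] C ⊗[A] L :=
    ((IsLocalizedModule.linearEquiv W ((LocalizedModule.mkLinearMap W' GC).restrictScalars P) lC).restrictScalars A)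
      ≪≫ₗ TensorProduct.comm A L C
  exact flat_iff_of_equiv_quotient hs e

variable [Algebra.FinitePresentation A P] (q : Ideal P) [q.IsPrime] {N : Type u} [AddCommGroup N] [Module P N]
  [Module A N] [IsScalarTower A P N]

set_option maxHeartbeats 1600000 in
/-- Flatness modulo the union of a directed family of ideals descends to a member. -/
theorem exists_flat_member_directed {G : Type u} [AddCommGroup G] [Module P G] [Module A G] [IsScalarTower A P G]
    [Module.FinitePresentation P G] (g0 : G →ₗ[P] N) [IsLocalizedModule q.primeCompl g0]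
    (c : Set (Ideal A)) (hne : c.Nonempty) (hc : DirectedOn (· ≤ ·) c) (hqU : ∀ J ∈ c, J.map (algebraMap A P) ≤ q)
    (h : Module.Flat (A ⧸ sSup c) ((A ⧸ sSup c) ⊗[A] N)) :
    ∃ J ∈ c, Module.Flat (A ⧸ J) ((A ⧸ J) ⊗[A] N) := by
  classical
  let U : Ideal A := sSup c
  let C := A ⧸ U
  obtain ⟨PC, GC, _, _, _, _, _, _, _, _, _, _, _, _, f, hpo1, hpo2, hf⟩ := FlatPure.exists_base_model A C P G
  haveI := hpo1; haveI := hpo2
  haveI : Algebra.FinitePresentation C PC :=
    Algebra.FinitePresentation.equiv (Algebra.IsPushout.equiv A C P PC)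
  haveI : Module.FinitePresentation PC GC := Module.FinitePresentation.of_equiv hf.equiv
  letI : Module A GC := Module.compHom GC (algebraMap A C)
  haveI : IsScalarTower A C GC := IsScalarTower.of_algebraMap_smul fun _ _ => rfl
  haveI : IsScalarTower A P GC := IsScalarTower.of_algebraMap_smul fun a x => by
    show algebraMap A P a • x = algebraMap A C a • x
    rw [← algebraMap_smul PC (algebraMap A P a), ← algebraMap_smul PC (algebraMap A C a),
      ← IsScalarTower.algebraMap_apply, ← IsScalarTower.algebraMap_apply]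
  have hs : Function.Surjective (algebraMap A C) := Ideal.Quotient.mk_surjective
  have hsP : Function.Surjective (algebraMap P PC) := FlatPure.surjective_of_isPushout (R := A) (R' := C) hs
  -- the point
  let π := algebraMap P PC
  have hkerq : RingHom.ker π ≤ q := by
    have hU : U.map (algebraMap A P) ≤ q := by
      rw [Ideal.map_le_iff_le_comap]
      exact sSup_le fun J hJ => Ideal.map_le_iff_le_comap.1 (hqU J hJ)
    let resC : C →ₐ[A] P ⧸ q :=
      Ideal.Quotient.liftₐ U (IsScalarTower.toAlgHom A A (P ⧸ q)) fun a ha => by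
        show algebraMap A (P ⧸ q) a = 0
        rw [IsScalarTower.algebraMap_apply A P (P ⧸ q)]
        exact Ideal.Quotient.eq_zero_iff_mem.2 (hU (Ideal.mem_map_of_mem _ ha))
    let ρ : PC →ₐ[A] P ⧸ q := Algebra.pushoutDesc PC resC (IsScalarTower.toAlgHom A P (P ⧸ q))
      fun _ _ => mul_comm _ _
    intro x hx
    have h1 : ρ (algebraMap P PC x) = algebraMap P (P ⧸ q) x := Algebra.pushoutDesc_right _ _ _ _ x
    rw [show algebraMap P PC x = 0 from hx, map_zero] at h1
    exact Ideal.Quotient.eq_zero_iff_mem.1 h1.symm
  let qC : Ideal PC := q.map π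
  haveI : qC.IsPrime := Ideal.map_isPrime_of_surjective hsP hkerq
  have hqc : qC.comap π = q := by
    rw [Ideal.comap_map_of_surjective π hsP]
    exact sup_eq_left.2 hkerq
  -- flat at the point
  have hflatq : Module.Flat C (LocalizedModule (q.primeCompl.map π) GC) :=
    (flat_localized_quot_iff hs f hf q.primeCompl g0).2 h
  have hat : FlatCA.FlatAt C qC GC := by
    refine (FlatClosed.flat_localized_iff C _).1 hflatq qC (Set.disjoint_left.2 ?_)
    rintro _ ⟨d, hd, rfl⟩ hdq
    exact hd (hqc.le hdq)
  obtain ⟨gC, hgC, hflat⟩ := FlatModel.exists_flat_nhd (R := C) GC qC hat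
  obtain ⟨g, rfl⟩ := hsP gC
  have hgq : g ∉ q := fun h => hgC (Ideal.mem_map_of_mem _ h)
  -- flat over a basic open
  let Pg := Localization.Away g
  let Gg := LocalizedModule (Submonoid.powers g) G
  haveI : Algebra.FinitePresentation A Pg :=
    haveI : Algebra.FinitePresentation P Pg := IsLocalization.Away.finitePresentation g
    Algebra.FinitePresentation.trans A P Pg
  haveI : IsScalarTower A Pg Gg := IsScalarTower.of_algebraMap_smul fun r x => by
    rw [IsScalarTower.algebraMap_apply A P Pg, algebraMap_smul, algebraMap_smul]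
  have hflatg : Module.Flat C (C ⊗[A] Gg) := by
    refine (flat_localized_quot_iff hs f hf (Submonoid.powers g)
      (LocalizedModule.mkLinearMap (Submonoid.powers g) G)).1 ?_
    exact hflat _ ⟨g, Submonoid.mem_powers _, rfl⟩
  -- descend along the chain
  haveI : Nonempty c := hne.to_subtype
  have hdir : IsDirected c (· ≤ ·) := ⟨fun a b => by
    obtain ⟨z, hz, haz, hbz⟩ := hc a.1 a.2 b.1 b.2
    exact ⟨⟨z, hz⟩, haz, hbz⟩⟩
  let tr : ∀ i j : c, i ≤ j → (A ⧸ (i : Ideal A)) →ₐ[A] A ⧸ (j : Ideal A) := fun i j hij =>
    Ideal.Quotient.factorₐ A hij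
  letI : ∀ i : c, Algebra (A ⧸ (i : Ideal A)) C := fun i =>
    (Ideal.Quotient.factorₐ A (le_sSup i.2 : (i : Ideal A) ≤ U)).toRingHom.toAlgebra
  haveI : ∀ i : c, IsScalarTower A (A ⧸ (i : Ideal A)) C := fun i => IsScalarTower.of_algebraMap_eq fun a => rfl
  have hcolim : FlatCA.IsDirectedColimitRing (fun i : c => A ⧸ (i : Ideal A))
      (fun i j hij => (tr i j hij).toRingHom) C := by
    refine ⟨hdir, inferInstance, fun i => Ideal.Quotient.ringHom_ext (RingHom.ext fun _ => rfl),
      fun i j k _ _ => Ideal.Quotient.ringHom_ext (RingHom.ext fun _ => rfl),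
      fun i j _ => Ideal.Quotient.ringHom_ext (RingHom.ext fun _ => rfl), fun x => ?_, fun i x hx => ?_⟩
    · obtain ⟨x, rfl⟩ := hs x
      exact ⟨Classical.arbitrary c, Ideal.Quotient.mk _ x, rfl⟩
    · obtain ⟨x, rfl⟩ := Ideal.Quotient.mk_surjective x
      obtain ⟨J, hJ, hxJ⟩ := (Submodule.mem_sSup_of_directed hne hc).1
        (Ideal.Quotient.eq_zero_iff_mem.1 hx : x ∈ U)
      obtain ⟨k, hik, hJk⟩ := hdir.directed i ⟨J, hJ⟩
      exact ⟨k, hik, Ideal.Quotient.eq_zero_iff_mem.2 ((show J ≤ (k : Ideal A) from hJk) hxJ)⟩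
  obtain ⟨i, hi⟩ := FlatSyz5.exists_flat_stage (fun i : c => A ⧸ (i : Ideal A)) tr C hcolim (B₀ := Pg) Gg hflatg
  refine ⟨i, i.2, ?_⟩
  -- localise further
  let D := A ⧸ (i : Ideal A)
  let lg := LocalizedModule.mkLinearMap (Submonoid.powers g) G
  let gG : Gg →ₗ[P] N :=
    IsLocalizedModule.liftOfLE (Submonoid.powers g) q.primeCompl (Submonoid.powers_le.2 hgq) lg g0
  haveI : IsLocalizedModule q.primeCompl gG :=
    inferInstanceAs (IsLocalizedModule q.primeCompl
      (IsLocalizedModule.liftOfLE _ _ (Submonoid.powers_le.2 hgq) lg g0))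
  obtain ⟨PD, GD, _, _, _, _, _, _, _, _, _, _, _, _, fD, hqo1, hqo2, hfD⟩ := FlatPure.exists_base_model A D P Gg
  haveI := hqo1; haveI := hqo2
  letI : Module A GD := Module.compHom GD (algebraMap A D)
  haveI : IsScalarTower A D GD := IsScalarTower.of_algebraMap_smul fun _ _ => rfl
  haveI : IsScalarTower A P GD := IsScalarTower.of_algebraMap_smul fun a x => by
    show algebraMap A P a • x = algebraMap A D a • x
    rw [← algebraMap_smul PD (algebraMap A P a), ← algebraMap_smul PD (algebraMap A D a),
      ← IsScalarTower.algebraMap_apply, ← IsScalarTower.algebraMap_apply]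
  have hsD : Function.Surjective (algebraMap A D) := Ideal.Quotient.mk_surjective
  refine (flat_localized_quot_iff hsD fD hfD q.primeCompl gG).1 ?_
  haveI : Module.Flat D GD := by
    haveI : Algebra.IsPushout A D P PD := hqo1
    exact Module.Flat.of_linearEquiv
      ((hfD.equiv.restrictScalars D).symm ≪≫ₗ Algebra.IsPushout.cancelBaseChange A D P PD Gg)
  let W := q.primeCompl.map (algebraMap P PD)
  exact flat_localizedModule (A := D) W

/-- Flatness modulo the union of a chain of ideals descends to a member. -/
theorem exists_flat_member {G : Type u} [AddCommGroup G] [Module P G] [Module A G] [IsScalarTower A P G]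
    [Module.FinitePresentation P G] (g0 : G →ₗ[P] N) [IsLocalizedModule q.primeCompl g0]
    (c : Set (Ideal A)) (hne : c.Nonempty) (hc : IsChain (· ≤ ·) c) (hqU : ∀ J ∈ c, J.map (algebraMap A P) ≤ q)
    (h : Module.Flat (A ⧸ sSup c) ((A ⧸ sSup c) ⊗[A] N)) :
    ∃ J ∈ c, Module.Flat (A ⧸ J) ((A ⧸ J) ⊗[A] N) :=
  exists_flat_member_directed q g0 c hne hc.directedOn hqU h

end Groth.Agent.FlatInj
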