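import Groth.Agent.RGLib.Consequences
import Groth.Agent.RGLib.PureLocal
import Groth.Agent.FlatPure.Model
import Groth.Agent.FlatPure.Closed

/-! Elementary lemmas for injectivity modulo the maximal ideal. -/

set_option autoImplicit false
set_option linter.style.haveILetI false

universe u

noncomputable section

open TensorProduct IsLocalRing

namespace Groth.Agent.FlatInj

variable {A : Type u} [CommRing A] {N M : Type u} [AddCommGroup N] [Module A N] [AddCommGroup M] [Module A M]

/-- Injectivity after tensoring passes to extensions, into a flat module. -/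
theorem lTensor_injective_ext [Module.Flat A M] (u : N →ₗ[A] M) {X' X X'' : Type u} [AddCommGroup X'] [Module A X']
    [AddCommGroup X] [Module A X] [AddCommGroup X''] [Module A X''] (i : X' →ₗ[A] X) (hi : Function.Injective i)
    (q : X →ₗ[A] X'') (hq : Function.Surjective q) (hex : Function.Exact i q)
    (h' : Function.Injective (u.lTensor X')) (h'' : Function.Injective (u.lTensor X'')) :
    Function.Injective (u.lTensor X) := by
  rw [injective_iff_map_eq_zero]
  intro z hz
  have h1 : q.rTensor N z = 0 := h'' (by
    rw [map_zero, ← LinearMap.comp_apply, LinearMap.lTensor_comp_rTensor, ← LinearMap.rTensor_comp_lTensor,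
      LinearMap.comp_apply, hz, map_zero])
  obtain ⟨w, rfl⟩ := (rTensor_exact N hex hq z).1 h1
  have h2 : u.lTensor X' w = 0 := Module.Flat.rTensor_preserves_injective_linearMap i hi (by
    rw [map_zero, ← LinearMap.comp_apply, LinearMap.rTensor_comp_lTensor, ← LinearMap.lTensor_comp_rTensor,
      LinearMap.comp_apply, hz])
  rw [show w = 0 from h' (h2.trans (map_zero _).symm), map_zero]

variable {N' : Type u} [AddCommGroup N'] [Module A N']

/-- A quotient by a submodule divisible by `a` does not change the tensor product with a module killed by `a`. -/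
theorem lTensor_bijective_of_div (π : N →ₗ[A] N') (hπ : Function.Surjective π) (a : A)
    (hker : ∀ n, π n = 0 → ∃ y, a • y = n) (X : Type u) [AddCommGroup X] [Module A X] (hX : ∀ x : X, a • x = 0) :
    Function.Bijective (π.lTensor X) := by
  refine ⟨?_, LinearMap.lTensor_surjective X hπ⟩
  rw [injective_iff_map_eq_zero]
  intro z hz
  obtain ⟨w, rfl⟩ := (lTensor_exact X (LinearMap.exact_subtype_ker_map π) hπ z).1 hz
  clear hz
  induction w using TensorProduct.induction_on with
  | zero => exact map_zero _
  | add x y hx hy => rw [map_add, hx, hy, add_zero]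
  | tmul x k =>
    obtain ⟨y, hy⟩ := hker k.1 k.2
    rw [LinearMap.lTensor_tmul, Submodule.subtype_apply, ← hy, tmul_smul, smul_tmul', hX, zero_tmul]

/-- A torsion-free module whose reductions modulo every nonzero element behave like those of a flat module is flat. -/
theorem flat_of_torsionFree [IsDomain A] (htf : ∀ (a : A), a ≠ 0 → ∀ n : N, a • n = 0 → n = 0)
    (hmod : ∀ (a : A), a ≠ 0 → ∀ (X Y : Type u) [AddCommGroup X] [Module A X] [AddCommGroup Y] [Module A Y]
      (i : X →ₗ[A] Y), Function.Injective i → (∀ y : Y, a • y = 0) → Function.Injective (i.rTensor N)) :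
    Module.Flat A N := by
  refine Module.Flat.iff_rTensor_injective'.2 fun J => ?_
  by_cases hJ : J = ⊥
  · subst hJ
    intro x y _
    have hz : ∀ v : (⊥ : Ideal A) ⊗[A] N, v = 0 := fun v => by
      induction v using TensorProduct.induction_on with
      | zero => rfl
      | tmul c n => rw [show c = 0 from Subsingleton.elim _ _, zero_tmul]
      | add a b ha hb => rw [ha, hb, add_zero]
    rw [hz x, hz y]
  obtain ⟨a, haJ, ha⟩ := Submodule.exists_mem_ne_zero_of_ne_bot hJ
  let Ia : Ideal A := Ideal.span {a}
  have hle : Ia ≤ J := (Ideal.span_singleton_le_iff_mem _).2 haJ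
  let K : Submodule A J := Submodule.comap J.subtype Ia
  let qA : A →ₗ[A] A ⧸ Ia := Submodule.mkQ Ia
  let ι : (J ⧸ K) →ₗ[A] A ⧸ Ia := K.mapQ Ia J.subtype le_rfl
  have hι : Function.Injective ι := by
    intro x y hxy
    obtain ⟨x, rfl⟩ := Submodule.Quotient.mk_surjective _ x
    obtain ⟨y, rfl⟩ := Submodule.Quotient.mk_surjective _ y
    rw [Submodule.Quotient.eq]
    show J.subtype (x - y) ∈ Ia
    rw [map_sub]
    exact (Submodule.Quotient.eq Ia).1 hxy
  rw [injective_iff_map_eq_zero]
  intro z hz
  have h1 : K.mkQ.rTensor N z = 0 := by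
    refine hmod a ha _ _ ι hι (fun y => ?_) ?_
    · obtain ⟨y, rfl⟩ := Submodule.Quotient.mk_surjective _ y
      rw [← Submodule.Quotient.mk_smul, Submodule.Quotient.mk_eq_zero, smul_eq_mul]
      exact Ideal.mul_mem_right _ _ (Ideal.mem_span_singleton_self a)
    · rw [map_zero, ← LinearMap.comp_apply, ← LinearMap.rTensor_comp,
        show ι.comp K.mkQ = qA.comp J.subtype from LinearMap.ext fun _ => rfl, LinearMap.rTensor_comp,
        LinearMap.comp_apply, hz, map_zero]
  obtain ⟨w, rfl⟩ := (rTensor_exact N (LinearMap.exact_subtype_mkQ K) K.mkQ_surjective z).1 h1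
  let aJ : J := ⟨a, haJ⟩
  have hw : ∃ y : N, K.subtype.rTensor N w = aJ ⊗ₜ y := by
    clear hz h1
    induction w using TensorProduct.induction_on with
    | zero => exact ⟨0, by rw [map_zero, tmul_zero]⟩
    | add x y hx hy =>
      obtain ⟨x', hx'⟩ := hx
      obtain ⟨y', hy'⟩ := hy
      exact ⟨x' + y', by rw [map_add, hx', hy', tmul_add]⟩
    | tmul k n =>
      obtain ⟨c, hc⟩ := Ideal.mem_span_singleton'.1 (show (k.1.1 : A) ∈ Ia from k.2)
      refine ⟨c • n, ?_⟩
      rw [LinearMap.rTensor_tmul, tmul_smul, smul_tmul']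
      exact congrArg (· ⊗ₜ[A] n) (Subtype.ext hc.symm)
  obtain ⟨y, hy⟩ := hw
  rw [hy] at hz ⊢
  have := congrArg (TensorProduct.lid A N) hz
  rw [map_zero, LinearMap.rTensor_tmul, TensorProduct.lid_tmul] at this
  rw [htf a ha y this, tmul_zero]

end Groth.Agent.FlatInj
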