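import Groth.Agent.FlatInj.Univ
import Groth.Agent.FlatInj.Chain

/-! Injectivity modulo the maximal ideal into a flat module forces flatness. -/

set_option autoImplicit false
set_option backward.isDefEq.respectTransparency false
set_option linter.style.haveILetI false

universe u

noncomputable section

open TensorProduct IsLocalRing Pointwise

namespace Groth.Agent.FlatInj

section step

variable {A : Type u} [CommRing A] [IsLocalRing A] (B : Type u) [CommRing B] [IsLocalRing B] [Algebra A B]
  [IsLocalHom (algebraMap A B)] [Algebra.EssFiniteType A B] {N : Type u} [AddCommGroup N] [Module B N] [Module A N]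
  [IsScalarTower A B N] [Module.Finite B N] {M : Type u} [AddCommGroup M] [Module A M] [Module.Flat A M]

include B

set_option maxHeartbeats 800000 in
/-- Flatness from injectivity after tensoring with the modules killed by a nonzero nonunit. -/
theorem flat_of_killed (u : N →ₗ[A] M)
    (hk : ∀ b ∈ maximalIdeal A, b ≠ 0 → ∀ (X : Type u) [AddCommGroup X] [Module A X], (∀ x : X, b • x = 0) →
      Function.Injective (u.lTensor X)) : Module.Flat A N := by
  have hsq : ∀ {X Y : Type u} [AddCommGroup X] [Module A X] [AddCommGroup Y] [Module A Y] (i : X →ₗ[A] Y),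
      Function.Injective i → Function.Injective (u.lTensor X) → Function.Injective (i.rTensor N) := by
    intro X Y _ _ _ _ i hi hX
    have h : Function.Injective ((u.lTensor Y) ∘ₗ (i.rTensor N)) := by
      rw [LinearMap.lTensor_comp_rTensor, ← LinearMap.rTensor_comp_lTensor, LinearMap.coe_comp]
      exact (Module.Flat.rTensor_preserves_injective_linearMap i hi).comp hX
    exact Function.Injective.of_comp h
  by_cases hdom : IsDomain A
  swap
  · obtain ⟨a, b, hab, ha, hb⟩ : ∃ a b : A, a * b = 0 ∧ a ≠ 0 ∧ b ≠ 0 := by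
      by_contra hne
      simp only [not_exists, not_and] at hne
      have : NoZeroDivisors A := ⟨fun {a b} h => or_iff_not_imp_left.2 fun ha => by_contra (hne a b h ha)⟩
      exact hdom (NoZeroDivisors.to_isDomain A)
    have ham : a ∈ maximalIdeal A := fun hu => hb (hu.mul_right_eq_zero.1 hab)
    have hbm : b ∈ maximalIdeal A := fun hu => ha (hu.mul_left_eq_zero.1 hab)
    refine Module.Flat.iff_rTensor_injective'.2 fun I => hsq _ Subtype.val_injective ?_
    let K : Submodule A I := LinearMap.range (LinearMap.lsmul A I a)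
    refine lTensor_injective_ext u K.subtype Subtype.val_injective K.mkQ K.mkQ_surjective
      (LinearMap.exact_subtype_mkQ K) (hk b hbm hb K ?_) (hk a ham ha _ ?_)
    · rintro ⟨-, y, rfl⟩
      refine Subtype.ext ?_
      show b • a • y = 0
      rw [smul_smul, mul_comm, hab, zero_smul]
    · intro x
      obtain ⟨x, rfl⟩ := Submodule.Quotient.mk_surjective K x
      rw [← Submodule.Quotient.mk_smul, Submodule.Quotient.mk_eq_zero]
      exact ⟨x, rfl⟩
  haveI := hdom
  by_cases hf : maximalIdeal A = ⊥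
  · letI : Field A := (isField_iff_maximalIdeal_eq.2 hf).toField
    infer_instance
  obtain ⟨a, ham, ha⟩ := Submodule.exists_mem_ne_zero_of_ne_bot hf
  let T : Submodule B N :=
    { carrier := {x | ∃ c : A, c ≠ 0 ∧ c • x = 0}
      zero_mem' := ⟨1, one_ne_zero, smul_zero _⟩
      add_mem' := fun {x y} ⟨c, hc, hx⟩ ⟨d, hd, hy⟩ => ⟨c * d, mul_ne_zero hc hd, by
        rw [smul_add, mul_comm c d, mul_smul, hx, smul_zero, zero_add, mul_comm d c, mul_smul, hy, smul_zero]⟩
      smul_mem' := fun s x ⟨c, hc, hx⟩ => ⟨c, hc, by rw [smul_comm, hx, smul_zero]⟩ }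
  have hsat : ∀ c : A, c ≠ 0 → ∀ n : N, c • n ∈ T → n ∈ T := fun c hc n ⟨d, hd, hn⟩ =>
    ⟨d * c, mul_ne_zero hd hc, by rw [mul_smul, hn]⟩
  have hdiv : ∀ t ∈ T, ∀ b ∈ maximalIdeal A, b ≠ 0 → ∃ y, b • y = t := by
    rintro t ⟨c, hc, ht⟩ b hb hb0
    have hut : u t = 0 := smul_injective_of_flat c hc _ (by rw [← map_smul, ht, map_zero])
    let J : Ideal A := Ideal.span {b}
    have hinj : Function.Injective (u.lTensor (A ⧸ J)) := hk b hb hb0 _ fun x => by
      obtain ⟨x, rfl⟩ := Ideal.Quotient.mk_surjective x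
      rw [Algebra.smul_def, Ideal.Quotient.algebraMap_eq, Ideal.Quotient.eq_zero_iff_mem.2
        (Ideal.mem_span_singleton_self b), zero_mul]
    have h0 : (Ideal.Quotient.mk J 1) ⊗ₜ[A] t = (0 : (A ⧸ J) ⊗[A] N) := hinj (by
      rw [LinearMap.lTensor_tmul, hut, tmul_zero, map_zero])
    have h1 := congrArg (TensorProduct.quotTensorEquivQuotSMul N J) h0
    rw [map_zero, TensorProduct.quotTensorEquivQuotSMul_mk_tmul, one_smul, Submodule.Quotient.mk_eq_zero,
      Submodule.ideal_span_singleton_smul, Submodule.mem_smul_pointwise_iff_exists] at h1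
    obtain ⟨y, -, hy⟩ := h1
    exact ⟨y, hy⟩
  let Q := N ⧸ T
  let π : N →ₗ[A] Q := T.mkQ.restrictScalars A
  have hflatQ : Module.Flat A Q := by
    refine flat_of_torsionFree (fun c hc q hq => ?_) fun c hc X Y _ _ _ _ i hi hY => ?_
    · obtain ⟨n, rfl⟩ := Submodule.Quotient.mk_surjective T q
      rw [← Submodule.Quotient.mk_smul, Submodule.Quotient.mk_eq_zero] at hq
      rw [Submodule.Quotient.mk_eq_zero]
      exact hsat c hc n hq
    · have hX : ∀ x : X, c • x = 0 := fun x => hi (by rw [map_smul, hY, map_zero])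
      by_cases hcm : c ∈ maximalIdeal A
      · have hd : ∀ n, π n = 0 → ∃ y, c • y = n := fun n hn =>
          hdiv n ((Submodule.Quotient.mk_eq_zero T).1 hn) c hcm hc
        have hbX := lTensor_bijective_of_div π (Submodule.mkQ_surjective T) c hd X hX
        have hbY := lTensor_bijective_of_div π (Submodule.mkQ_surjective T) c hd Y hY
        have hcomm : (i.rTensor Q) ∘ (π.lTensor X) = (π.lTensor Y) ∘ (i.rTensor N) := funext fun z => by
          simp only [Function.comp_apply]
          rw [← LinearMap.comp_apply, LinearMap.rTensor_comp_lTensor, ← LinearMap.lTensor_comp_rTensor,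
            LinearMap.comp_apply]
        rw [← Function.Injective.of_comp_iff' _ hbX, hcomm]
        exact hbY.1.comp (hsq i hi (hk c hcm hc X hX))
      · have hXs : ∀ x : X, x = 0 := fun x => (IsLocalRing.notMem_maximalIdeal.1 hcm).smul_eq_zero.1 (hX x)
        have hz : ∀ z : X ⊗[A] Q, z = 0 := fun z => by
          induction z using TensorProduct.induction_on with
          | zero => rfl
          | tmul x q => rw [hXs x, zero_tmul]
          | add z w h1 h2 => rw [h1, h2, add_zero]
        exact fun z w _ => by rw [hz z, hz w]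
  haveI := hflatQ
  haveI : Module.FinitePresentation B Q := RGLib.finitePresentation_of_flat_local (R := A) (B := B) Q
  have hfg : T.FG := by
    have := Module.FinitePresentation.fg_ker T.mkQ T.mkQ_surjective
    rwa [Submodule.ker_mkQ] at this
  have hle : T ≤ Ideal.span {algebraMap A B a} • T := fun t ht => by
    obtain ⟨y, hy⟩ := hdiv t ht a ham ha
    rw [← hy, ← algebraMap_smul B a y]
    exact Submodule.smul_mem_smul (Ideal.mem_span_singleton_self _) (hsat a ha y (hy.symm ▸ ht))
  have hbot : T = ⊥ := Submodule.eq_bot_of_le_smul_of_le_jacobson_bot _ _ hfg hle (by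
    rw [IsLocalRing.jacobson_eq_maximalIdeal _ bot_ne_top, Ideal.span_singleton_le_iff_mem]
    exact map_nonunit (algebraMap A B) a ham)
  exact Module.Flat.of_linearEquiv ((Submodule.quotEquivOfEqBot T hbot).symm.restrictScalars A)

end step

variable {A : Type u} [CommRing A] [IsLocalRing A] {N M : Type u} [AddCommGroup N] [Module A N] [AddCommGroup M]
  [Module A M]

theorem lTensor_quot_residue (u : N →ₗ[A] M) (hm : Function.Injective (u.lTensor (ResidueField A)))
    (J : Ideal A) [IsLocalRing (A ⧸ J)] : Function.Injective (u.lTensor (ResidueField (A ⧸ J))) := by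
  refine lTensor_field_injective u (ResidueField (A ⧸ J)) (maximalIdeal A) ?_ (lTensor_maximal u hm)
  ext r
  rw [RingHom.mem_ker, IsScalarTower.algebraMap_apply A (A ⧸ J)]
  exact (residue_eq_zero_iff _).trans ⟨fun hr hu => hr (hu.map (Ideal.Quotient.mk J)), fun hr hu => hr
    ((IsLocalHom.of_surjective (Ideal.Quotient.mk J) Ideal.Quotient.mk_surjective).map_nonunit r hu)⟩

set_option maxHeartbeats 800000 in
/-- A localised finitely presented module with a map to a flat module injective modulo the maximal ideal is flat. -/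
theorem flat_of_injective (B : Type u) [CommRing B] [IsLocalRing B] [Algebra A B] [IsLocalHom (algebraMap A B)]
    [Algebra.EssFiniteType A B] [Module B N] [IsScalarTower A B N] [Module.Finite B N] [Module.Flat A M]
    {P : Type u} [CommRing P] [Algebra A P] [Algebra.FinitePresentation A P] (q : Ideal P) [q.IsPrime]
    (hq : (maximalIdeal A).map (algebraMap A P) ≤ q) [Module P N] [IsScalarTower A P N]
    {G : Type u} [AddCommGroup G] [Module P G] [Module A G] [IsScalarTower A P G] [Module.FinitePresentation P G]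
    (g0 : G →ₗ[P] N) [IsLocalizedModule q.primeCompl g0]
    (u : N →ₗ[A] M) (hm : Function.Injective (u.lTensor (ResidueField A))) : Module.Flat A N := by
  let good : Ideal A → Prop := fun J => Module.Flat (A ⧸ J) ((A ⧸ J) ⊗[A] N)
  suffices h : ∀ J : Ideal A, J ≠ ⊤ → good J by
    let J : Ideal A := ⊥
    haveI : Module.Flat (A ⧸ J) ((A ⧸ J) ⊗[A] N) := h J bot_ne_top
    haveI : Module.Flat A (A ⧸ J) := Module.Flat.of_linearEquiv (Submodule.quotEquivOfEqBot J rfl)
    haveI : Module.Flat A ((A ⧸ J) ⊗[A] N) := Module.Flat.trans A (A ⧸ J) _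
    exact Module.Flat.of_linearEquiv
      ((TensorProduct.lid A N).symm ≪≫ₗ LinearEquiv.rTensor N (Submodule.quotEquivOfEqBot J rfl).symm)
  intro J₀ hJ₀
  by_contra hbad
  let S : Set (Ideal A) := {J | J ≠ ⊤ ∧ ¬ good J}
  obtain ⟨J, -, hmax⟩ := zorn_le_nonempty₀ S (fun c hcS hc y hy => by
    refine ⟨sSup c, ⟨fun e => ?_, fun hg => ?_⟩, fun z hz => le_sSup hz⟩
    · obtain ⟨z, hz, h1⟩ := (Submodule.mem_sSup_of_directed ⟨y, hy⟩ hc.directedOn).1
        (show (1 : A) ∈ sSup c by rw [e]; trivial)
      exact (hcS hz).1 ((Ideal.eq_top_iff_one z).2 h1)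
    · obtain ⟨z, hz, hzg⟩ := exists_flat_member q g0 c ⟨y, hy⟩ hc
        (fun z hz => (Ideal.map_mono (le_maximalIdeal (hcS hz).1)).trans hq) hg
      exact (hcS hz).2 hzg) J₀ ⟨hJ₀, hbad⟩
  obtain ⟨hJ, hJbad⟩ := hmax.prop
  obtain ⟨hloc, B', N', M', _, _, _, _, _, _, _, _, _, _, _, _, _, u', hu', ⟨e⟩⟩ := exists_rebase B u J hJ
  refine hJbad ?_
  show Module.Flat (A ⧸ J) ((A ⧸ J) ⊗[A] N)
  suffices Module.Flat (A ⧸ J) N' from Module.Flat.of_linearEquiv e.symm
  refine flat_of_killed B' u' fun b hb hb0 X _ _ hX => ?_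
  letI : Module A X := Module.compHom X (Ideal.Quotient.mk J)
  haveI : IsScalarTower A (A ⧸ J) X := IsScalarTower.of_algebraMap_smul fun _ _ => rfl
  refine (hu' X).2 ?_
  let J' : Ideal A := (Ideal.span {b}).comap (Ideal.Quotient.mk J)
  have hle : J ≤ J' := fun z hz => by
    rw [Ideal.mem_comap, Ideal.Quotient.eq_zero_iff_mem.2 hz]
    exact zero_mem _
  have hJ' : J' ≠ ⊤ := Ideal.comap_ne_top _ fun e0 => (maximalIdeal.isMaximal (A ⧸ J)).ne_top
    (top_le_iff.1 (e0.ge.trans ((Ideal.span_singleton_le_iff_mem _).2 hb)))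
  have hgood : good J' := by
    by_contra hb'
    obtain ⟨b', rfl⟩ := Ideal.Quotient.mk_surjective b
    refine hb0 (Ideal.Quotient.eq_zero_iff_mem.2 (hmax.le_of_ge ⟨hJ', hb'⟩ hle ?_))
    exact Ideal.mem_comap.2 (Ideal.mem_span_singleton_self _)
  obtain ⟨hloc', B'', N'', M'', _, _, _, _, _, _, _, _, _, _, _, _, _, u'', hu'', ⟨e''⟩⟩ := exists_rebase B u J' hJ'
  haveI : Module.Flat (A ⧸ J') ((A ⧸ J') ⊗[A] N) := hgood
  haveI : Module.Flat (A ⧸ J') N'' := Module.Flat.of_linearEquiv e''
  have htor : Module.IsTorsionBySet A X (J' : Set A) := by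
    rintro x ⟨r, hr⟩
    obtain ⟨c, hc⟩ := Ideal.mem_span_singleton'.1 (Ideal.mem_comap.1 hr)
    show (Ideal.Quotient.mk J r) • x = 0
    rw [← hc, mul_smul, hX, smul_zero]
  letI : Module (A ⧸ J') X := htor.module
  haveI : IsScalarTower A (A ⧸ J') X := htor.isScalarTower
  exact (hu'' X).1 (univInj_of_flat B'' u'' ((hu'' _).2 (lTensor_quot_residue u hm J')) X)

end Groth.Agent.FlatInj
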