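import Groth.Agent.FlatInj.Flat

/-! Injectivity modulo the maximal ideal of a map from a finite module to a flat module, without finiteness of the base. -/

set_option autoImplicit false
set_option backward.isDefEq.respectTransparency false
set_option backward.isDefEq.respectTransparency.types false
set_option linter.style.haveILetI false

universe u

noncomputable section

open TensorProduct IsLocalRing

namespace Groth.Agent.FlatInj

set_option maxHeartbeats 1600000 in
/-- A finite module with a map to a flat module that is injective modulo the maximal ideal is flat, of finite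
presentation, and maps universally injectively. -/
theorem main {A B M N : Type u} [CommRing A] [CommRing B] [IsLocalRing A] [IsLocalRing B] [Algebra A B]
    [IsLocalHom (algebraMap A B)] [Algebra.EssFiniteType A B] [AddCommGroup M] [Module A M] [Module.Flat A M]
    [AddCommGroup N] [Module A N] [Module B N] [IsScalarTower A B N] [Module.Finite B N]
    (u : N →ₗ[A] M) (hu : Function.Injective (u.lTensor (ResidueField A))) :
    (∀ (Q : Type u) [AddCommGroup Q] [Module A Q], Function.Injective (u.lTensor Q)) ∧
      Module.FinitePresentation B N ∧ Module.Flat A N := by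
  classical
  obtain ⟨n, q, _, φ, hq, hφ⟩ := RGLib.exists_localization_surjection A B
  let P := MvPolynomial (Fin n) A
  let S := Localization.AtPrime q
  let m := maximalIdeal A
  letI : Module S N := Module.compHom N φ.toRingHom
  haveI : IsScalarTower A S N := IsScalarTower.of_algebraMap_smul fun r x => by
    show φ (algebraMap A S r) • x = r • x
    rw [φ.commutes, algebraMap_smul]
  letI : Module P N := Module.compHom N (algebraMap P S)
  haveI : IsScalarTower P S N := IsScalarTower.of_algebraMap_smul fun _ _ => rfl
  haveI : IsScalarTower A P N := IsScalarTower.of_algebraMap_smul fun r x => by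
    show algebraMap P S (algebraMap A P r) • x = r • x
    rw [← IsScalarTower.algebraMap_apply, algebraMap_smul]
  obtain ⟨a, e₀, he₀⟩ := Module.Finite.exists_fin (R := B) (M := N)
  -- finitely many relations, generating modulo the maximal ideal
  let K : Submodule P (Fin a → P) := LinearMap.ker (Fintype.linearCombination P e₀)
  obtain ⟨b, G, hG, hGK⟩ := RGLib.exists_relations K
  let R : Submodule P (Fin a → P) := Submodule.span P (Set.range G)
  let Gm := (Fin a → P) ⧸ R
  have hRK : R ≤ K := Submodule.span_le.2 (Set.range_subset_iff.2 hG)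
  let ρ : Gm →ₗ[P] N := R.liftQ (Fintype.linearCombination P e₀) hRK
  haveI : Module.FinitePresentation P Gm :=
    Module.finitePresentation_of_surjective R.mkQ R.mkQ_surjective (by
      rw [Submodule.ker_mkQ]; exact Submodule.fg_span (Set.finite_range _))
  obtain ⟨N₁, _, _, _, _, l, hloc⟩ : ∃ (N₁ : Type u) (_ : AddCommGroup N₁) (_ : Module P N₁) (_ : Module S N₁)
      (_ : IsScalarTower P S N₁) (l : Gm →ₗ[P] N₁), IsLocalizedModule q.primeCompl l :=
    ⟨LocalizedModule q.primeCompl Gm, inferInstance, inferInstance, inferInstance, inferInstance,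
      LocalizedModule.mkLinearMap q.primeCompl Gm, inferInstance⟩
  haveI := hloc
  letI : Module A N₁ := Module.compHom N₁ (algebraMap A P)
  haveI : IsScalarTower A P N₁ := IsScalarTower.of_algebraMap_smul fun _ _ => rfl
  have hunit : ∀ x : q.primeCompl, IsUnit ((algebraMap P (Module.End P N)) x) := fun x => by
    rw [Module.End.isUnit_iff]
    obtain ⟨w, hw⟩ := IsLocalization.map_units S x
    have h : ⇑((algebraMap P (Module.End P N)) x) = fun z => (w : S) • z := funext fun z => by
      rw [Module.algebraMap_end_apply, hw, algebraMap_smul]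
    rw [h]
    exact MulAction.bijective w
  let πP : N₁ →ₗ[P] N := IsLocalizedModule.lift q.primeCompl l ρ hunit
  let π : N₁ →ₗ[S] N := πP.extendScalarsOfIsLocalization q.primeCompl S
  haveI : IsScalarTower A S N₁ := IsScalarTower.to₁₃₄ A P S N₁
  have hπl : ∀ g, π (l g) = ρ g := fun g => IsLocalizedModule.lift_apply q.primeCompl l ρ hunit g
  have hπs : Function.Surjective π := fun x => by
    obtain ⟨c, rfl⟩ := (Submodule.mem_span_range_iff_exists_fun B).1
      (he₀ ▸ trivial : x ∈ Submodule.span B (Set.range e₀))
    choose s hs using fun i => hφ (c i)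
    refine ⟨∑ i, s i • l (R.mkQ (Pi.single i 1)), ?_⟩
    rw [map_sum]
    refine Finset.sum_congr rfl fun i _ => ?_
    rw [map_smul, hπl, show ρ (R.mkQ (Pi.single i 1)) = e₀ i from (Fintype.linearCombination_apply_single P e₀ i 1).trans (one_smul P _)]
    show φ (s i) • e₀ i = _
    rw [hs]
  -- the kernel of `π` lies in the closed fibre
  let mS : Ideal S := m.map (algebraMap A S)
  have hmP : ∀ r ∈ m.map (MvPolynomial.C : A →+* P), algebraMap P S r ∈ mS := fun r hr => by
    have : (m.map (MvPolynomial.C : A →+* P)).map (algebraMap P S) = mS := by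
      rw [Ideal.map_map]
      exact congrArg (fun h : A →+* S => m.map h) (IsScalarTower.algebraMap_eq A P S).symm
    exact this ▸ Ideal.mem_map_of_mem _ hr
  have hπk : ∀ x, π x = 0 → x ∈ (m • ⊤ : Submodule A N₁) := by
    intro x hx
    obtain ⟨⟨g, t⟩, rfl⟩ := IsLocalizedModule.mk'_surjective q.primeCompl l x
    obtain ⟨v, rfl⟩ := R.mkQ_surjective g
    have hx' : ρ (R.mkQ v) = 0 := by
      rw [← hπl, ← IsLocalizedModule.mk'_cancel' l (R.mkQ v) t]
      show πP ((t : P) • _) = 0
      rw [map_smul]
      exact (congrArg ((t : P) • ·) hx).trans (smul_zero _)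
    obtain ⟨c, hc, hvc⟩ := hGK v (show v ∈ K from hx')
    have h1 : l (R.mkQ v) ∈ (mS • ⊤ : Submodule S N₁) := by
      rw [← sub_add_cancel v c, map_add, (Submodule.Quotient.mk_eq_zero R).2 hc |> fun h => (show R.mkQ c = 0 from h),
        add_zero, pi_eq_sum_univ' (v - c), map_sum, map_sum]
      refine Submodule.sum_mem _ fun i _ => ?_
      rw [map_smul, map_smul, ← algebraMap_smul S]
      exact Submodule.smul_mem_smul (hmP _ (hvc i)) trivial
    rw [← IsLocalizedModule.mk'_cancel' l (R.mkQ v) t, Submonoid.smul_def, ← algebraMap_smul S,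
      Submodule.smul_mem_iff_of_isUnit _ (IsLocalization.map_units S t), ← Submodule.restrictScalars_mem A,
      show (mS • ⊤ : Submodule S N₁).restrictScalars A = m • ⊤ from Ideal.smul_restrictScalars m ⊤] at h1
    exact h1
  let πA := π.restrictScalars A
  have hπinj : Function.Injective (πA.lTensor (ResidueField A)) := by
    rw [injective_iff_map_eq_zero]
    intro z hz
    obtain ⟨z', rfl⟩ := (lTensor_exact (ResidueField A) (LinearMap.exact_subtype_ker_map πA) hπs z).1 hz
    clear hz
    induction z' using TensorProduct.induction_on with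
    | zero => exact map_zero _
    | add x y hx hy => rw [map_add, hx, hy, add_zero]
    | tmul c k =>
      rw [LinearMap.lTensor_tmul, Submodule.subtype_apply]
      refine Submodule.smul_induction_on (hπk k.1 k.2) (fun r hr y _ => ?_)
        (fun x y hx hy => by rw [tmul_add, hx, hy, add_zero])
      rw [tmul_smul, smul_tmul', Algebra.smul_def, show algebraMap A (ResidueField A) r = 0 from
        Ideal.Quotient.eq_zero_iff_mem.2 hr, zero_mul, zero_tmul]
  haveI : IsLocalHom (algebraMap A S) := by
    refine ⟨fun r hr => ?_⟩
    rw [IsScalarTower.algebraMap_apply A P S] at hr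
    by_contra hu'
    have : MvPolynomial.C r ∈ q := by
      rw [← Ideal.mem_comap, hq]
      exact hu'
    exact ((IsLocalization.AtPrime.isUnit_to_map_iff S q _).1 hr) this
  haveI : Algebra.EssFiniteType P S := Algebra.EssFiniteType.of_isLocalization S q.primeCompl
  haveI : Algebra.EssFiniteType A S := Algebra.EssFiniteType.comp A P S
  haveI : Module.Finite S N₁ := Module.Finite.of_isLocalizedModule q.primeCompl l
  let v := u.comp πA
  have hv : Function.Injective (v.lTensor (ResidueField A)) := by
    rw [LinearMap.lTensor_comp, LinearMap.coe_comp]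
    exact hu.comp hπinj
  haveI : Module.Flat A N₁ := flat_of_injective S q (Ideal.map_le_iff_le_comap.2 hq.ge) l v hv
  have hl : ∀ (Q : Type u) [AddCommGroup Q] [Module A Q], Function.Injective (v.lTensor Q) := fun Q _ _ =>
    univInj_of_flat S v hv Q
  have hπbij : Function.Bijective πA := by
    refine ⟨fun x y hxy => ?_, hπs⟩
    have h1 : (1 : A) ⊗ₜ[A] x = (1 : A) ⊗ₜ[A] y := hl A (by
      simp only [v, LinearMap.lTensor_tmul, LinearMap.coe_comp, Function.comp_apply, hxy])
    simpa using congrArg (TensorProduct.lid A _) h1
  haveI : Module.Flat A N := Module.Flat.of_linearEquiv (LinearEquiv.ofBijective πA hπbij).symm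
  refine ⟨fun Q _ _ x y hxy => ?_, RGLib.finitePresentation_of_flat_local (R := A) (B := B) N, inferInstance⟩
  obtain ⟨x, rfl⟩ := LinearMap.lTensor_surjective Q (g := πA) hπs x
  obtain ⟨y, rfl⟩ := LinearMap.lTensor_surjective Q (g := πA) hπs y
  refine congrArg _ (hl Q ?_)
  rwa [LinearMap.lTensor_comp]

end Groth.Agent.FlatInj
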