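import Groth.Agent.FlatInj.Basic

/-! Passing to a quotient of the base. -/

set_option autoImplicit false
set_option backward.isDefEq.respectTransparency false
set_option linter.style.haveILetI false

universe u

noncomputable section

open TensorProduct IsLocalRing

namespace Groth.Agent.FlatInj

variable {A N M : Type u} [CommRing A] [AddCommGroup N] [Module A N] [AddCommGroup M] [Module A M]

/-- A fibre computed in a larger field. -/
theorem lTensor_field_injective (u : N →ₗ[A] M) (K : Type u) [Field K] [Algebra A K] (p : Ideal A) [p.IsPrime]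
    (hp : RingHom.ker (algebraMap A K) = p) (h : Function.Injective (u.lTensor p.ResidueField)) :
    Function.Injective (u.lTensor K) := by
  let δ : p.ResidueField →+* K := Ideal.ResidueField.lift p (algebraMap A K) hp.ge fun s hs =>
    isUnit_iff_ne_zero.2 fun h0 => hs (hp.le h0)
  letI : Algebra p.ResidueField K := δ.toAlgebra
  haveI : IsScalarTower A p.ResidueField K := IsScalarTower.of_algebraMap_eq fun a =>
    (Ideal.ResidueField.lift_algebraMap p (algebraMap A K) _ _ a).symm
  rw [← RGLib.lTensor_baseChange_iff (A1 := p.ResidueField) u K]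
  exact Module.Flat.lTensor_preserves_injective_linearMap (u.baseChange p.ResidueField) h

/-- The residue field of a local ring as the fibre at its maximal ideal. -/
theorem lTensor_maximal [IsLocalRing A] (u : N →ₗ[A] M) (h : Function.Injective (u.lTensor (ResidueField A))) :
    Function.Injective (u.lTensor (maximalIdeal A).ResidueField) := by
  let f : (A ⧸ maximalIdeal A) →ₗ[A] (maximalIdeal A).ResidueField :=
    (IsScalarTower.toAlgHom A (A ⧸ maximalIdeal A) (maximalIdeal A).ResidueField).toLinearMap
  let e := LinearEquiv.ofBijective f (Ideal.bijective_algebraMap_quotient_residueField _)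
  intro x y hxy
  obtain ⟨x, rfl⟩ := (e.rTensor N).surjective x
  obtain ⟨y, rfl⟩ := (e.rTensor N).surjective y
  have hn : ∀ r, u.lTensor (maximalIdeal A).ResidueField (e.rTensor N r) = e.rTensor M (u.lTensor _ r) := fun r => by
    induction r using TensorProduct.induction_on with
    | zero => simp only [map_zero]
    | add a b ha hb => simp only [map_add, ha, hb]
    | tmul a b => rfl
  rw [hn, hn] at hxy
  exact congrArg _ (h ((e.rTensor M).injective hxy))

set_option maxHeartbeats 1600000 in
/-- The data modulo a proper ideal of the base. -/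
theorem exists_rebase [IsLocalRing A] (B : Type u) [CommRing B] [IsLocalRing B] [Algebra A B] [IsLocalHom (algebraMap A B)]
    [Algebra.EssFiniteType A B] [Module B N] [IsScalarTower A B N] [Module.Finite B N] [Module.Flat A M]
    (u : N →ₗ[A] M) (J : Ideal A) (hJ : J ≠ ⊤) :
    ∃ (_ : IsLocalRing (A ⧸ J)) (B' N' M' : Type u) (_ : CommRing B') (_ : IsLocalRing B') (_ : Algebra (A ⧸ J) B')
      (_ : IsLocalHom (algebraMap (A ⧸ J) B')) (_ : Algebra.EssFiniteType (A ⧸ J) B')
      (_ : AddCommGroup N') (_ : Module B' N') (_ : Module (A ⧸ J) N') (_ : IsScalarTower (A ⧸ J) B' N')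
      (_ : Module.Finite B' N') (_ : AddCommGroup M') (_ : Module (A ⧸ J) M') (_ : Module.Flat (A ⧸ J) M')
      (u' : N' →ₗ[A ⧸ J] M'),
      (∀ (X : Type u) [AddCommGroup X] [Module (A ⧸ J) X] [Module A X] [IsScalarTower A (A ⧸ J) X],
        Function.Injective (u'.lTensor X) ↔ Function.Injective (u.lTensor X)) ∧
      Nonempty (N' ≃ₗ[A ⧸ J] (A ⧸ J) ⊗[A] N) := by
  haveI : Nontrivial (A ⧸ J) := Ideal.Quotient.nontrivial_iff.2 hJ
  haveI hloc : IsLocalRing (A ⧸ J) := IsLocalRing.of_surjective' (Ideal.Quotient.mk J) Ideal.Quotient.mk_surjective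
  obtain ⟨B', N', _, _, _, _, _, _, _, _, _, _, _, _, f, hpo1, hpo2, hf⟩ :=
    FlatPure.exists_base_model A (A ⧸ J) B N
  haveI := hpo1; haveI := hpo2
  have hs : Function.Surjective (algebraMap B B') :=
    FlatPure.surjective_of_isPushout (R := A) (R' := A ⧸ J) Ideal.Quotient.mk_surjective
  have hJm : J ≤ maximalIdeal A := IsLocalRing.le_maximalIdeal hJ
  -- `B'` is not trivial
  let res : A ⧸ J →+* ResidueField B := Ideal.Quotient.lift J ((residue B).comp (algebraMap A B)) fun a ha =>
    (residue_eq_zero_iff _).2 (map_nonunit (algebraMap A B) a (hJm ha))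
  let resA : A ⧸ J →ₐ[A] ResidueField B := { res with commutes' := fun _ => rfl }
  let ρ : B' →ₐ[A] ResidueField B := Algebra.pushoutDesc B' resA (IsScalarTower.toAlgHom A B (ResidueField B))
    fun _ _ => mul_comm _ _
  haveI : Nontrivial B' := ρ.toRingHom.domain_nontrivial
  haveI : IsLocalRing B' := IsLocalRing.of_surjective' (algebraMap B B') hs
  haveI : IsLocalHom (algebraMap B B') := IsLocalHom.of_surjective _ hs
  haveI : IsLocalHom (algebraMap (A ⧸ J) B') := by
    refine ⟨fun x hx => ?_⟩
    obtain ⟨a, rfl⟩ := Ideal.Quotient.mk_surjective x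
    rw [← Ideal.Quotient.algebraMap_eq, ← IsScalarTower.algebraMap_apply, IsScalarTower.algebraMap_apply A B B'] at hx
    have h1 := isUnit_of_map_unit (algebraMap A B) a (isUnit_of_map_unit (algebraMap B B') _ hx)
    exact h1.map _
  haveI : Algebra.FiniteType B B' := Algebra.FiniteType.of_surjective (Algebra.ofId B B') hs
  haveI : Algebra.EssFiniteType A B' := Algebra.EssFiniteType.comp A B B'
  haveI : Algebra.EssFiniteType (A ⧸ J) B' := Algebra.EssFiniteType.of_comp A (A ⧸ J) B'
  haveI : Module.Finite B' N' := Module.Finite.equiv hf.equiv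
  let e : N' ≃ₗ[A ⧸ J] (A ⧸ J) ⊗[A] N :=
    (hf.equiv.restrictScalars (A ⧸ J)).symm ≪≫ₗ Algebra.IsPushout.cancelBaseChange A (A ⧸ J) B B' N
  refine ⟨hloc, B', N', (A ⧸ J) ⊗[A] M, inferInstance, inferInstance, inferInstance, inferInstance, inferInstance,
    inferInstance, inferInstance, inferInstance, inferInstance, inferInstance, inferInstance, inferInstance,
    inferInstance, (u.baseChange (A ⧸ J)).comp e.toLinearMap, fun X _ _ _ _ => ?_, ⟨e⟩⟩
  rw [LinearMap.lTensor_comp, LinearMap.coe_comp, ← RGLib.lTensor_baseChange_iff (A1 := A ⧸ J) u X]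
  exact Function.Injective.of_comp_iff' _ (e.lTensor X).bijective

end Groth.Agent.FlatInj
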