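import Groth.Agent.RGLib.PureLocal
import Groth.Agent.S0448

/-! Injectivity in one fibre spreads to generisations inside a finitely generated closed subset. -/

set_option autoImplicit false
set_option linter.style.haveILetI false

universe u

noncomputable section

open TensorProduct IsLocalRing

namespace Groth.Agent.FlatInj

set_option maxHeartbeats 1600000 in
/-- A map out of a localised finitely presented module which is injective in the fibre at `p` is injective
in the fibres at the generisations of `p` containing a suitable finitely generated ideal. -/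
theorem exists_spread {A B : Type u} [CommRing A] [CommRing B] [Algebra A B]
    [Algebra.FinitePresentation A B] (T : Submonoid B) {N : Type u} [AddCommGroup N] [Module B N] [Module A N]
    [IsScalarTower A B N] [Module (Localization T) N] [IsScalarTower B (Localization T) N]
    [Module.FinitePresentation (Localization T) N]
    {M : Type u} [AddCommGroup M] [Module A M] [Module.Flat A M] (u : N →ₗ[A] M)
    (p : Ideal A) [p.IsPrime] (h : Function.Injective (u.lTensor p.ResidueField)) :
    ∃ P : Ideal A, P.FG ∧ P ≤ p ∧ ∀ (p' : Ideal A) [p'.IsPrime], P ≤ p' → p' ≤ p →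
      Function.Injective (u.lTensor p'.ResidueField) := by
  classical
  obtain ⟨N0, _, _, _, g0, _⟩ := RGLib.exists_fp_model T N
  let : Module A N0 := Module.compHom N0 (algebraMap A B)
  haveI : IsScalarTower A B N0 := IsScalarTower.of_algebraMap_smul fun _ _ => rfl
  obtain ⟨g1, hg1, P, hPfg, hPp, hF, hinj⟩ := RGLib.exists_free_localized T N0 p
  refine ⟨P, hPfg, hPp, fun p' _ hPp' hp'p => ?_⟩
  haveI := RGLib.isLocalRing_locQuot p P hPp
  haveI := hF
  let A1 := RGLib.LocQuot p P
  let X := p'.ResidueField
  rw [LinearMap.lTensor_inj_iff_rTensor_inj, injective_iff_map_eq_zero]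
  intro z hz
  -- `X` is an algebra over the thickened fibre
  let δ : Localization.AtPrime p →+* X := IsLocalization.lift (M := p.primeCompl) (g := algebraMap A X)
    fun s => isUnit_iff_ne_zero.2 fun h0 => s.2 (hp'p (by rwa [Ideal.algebraMap_residueField_eq_zero] at h0))
  let δ' : A1 →+* X := Ideal.Quotient.lift _ δ fun x hx => by
    have hle : P.map (algebraMap A (Localization.AtPrime p)) ≤ RingHom.ker δ := Ideal.map_le_iff_le_comap.2 fun a ha => by
      rw [Ideal.mem_comap, RingHom.mem_ker, IsLocalization.lift_eq, Ideal.algebraMap_residueField_eq_zero]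
      exact hPp' ha
    exact RingHom.mem_ker.1 (hle hx)
  letI : Algebra A1 X := δ'.toAlgebra
  haveI : IsScalarTower A A1 X := IsScalarTower.of_algebraMap_eq (R := A) (S := A1) (A := X) fun a => by
    show algebraMap A X a = δ (algebraMap A (Localization.AtPrime p) a)
    rw [IsLocalization.lift_eq]
  -- a numerator
  let G := LocalizedModule (Submonoid.powers g1) N0
  let lG := LocalizedModule.mkLinearMap (Submonoid.powers g1) N0
  let gG : G →ₗ[B] N :=
    IsLocalizedModule.liftOfLE (Submonoid.powers g1) T (Submonoid.powers_le.2 hg1) lG g0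
  haveI : IsLocalizedModule T gG :=
    inferInstanceAs (IsLocalizedModule T (IsLocalizedModule.liftOfLE _ _ (Submonoid.powers_le.2 hg1) lG g0))
  obtain ⟨⟨w, t⟩, hw⟩ := IsLocalizedModule.surj T (AlgebraTensorModule.rTensor A X gG) z
  change (t : B) • z = AlgebraTensorModule.rTensor A X gG w at hw
  obtain ⟨e, he⟩ := IsLocalization.map_units (Localization T) t
  haveI : IsScalarTower A (Localization T) N := IsScalarTower.of_algebraMap_smul fun a x => by
    rw [IsScalarTower.algebraMap_apply A B (Localization T), algebraMap_smul, algebraMap_smul]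
  let inv : N →ₗ[A] N := (LinearMap.lsmul (Localization T) N (↑e⁻¹ : Localization T)).restrictScalars A
  let mt : N →ₗ[A] N := (LinearMap.lsmul B N (t : B)).restrictScalars A
  have hinvmt : inv ∘ₗ mt = LinearMap.id := LinearMap.ext fun x => by
    show (↑e⁻¹ : Localization T) • (t : B) • x = x
    rw [← algebraMap_smul (Localization T) (t : B) x, ← he, smul_smul, Units.inv_mul, one_smul]
  have hmtinv : mt ∘ₗ inv = LinearMap.id := LinearMap.ext fun x => by
    show (t : B) • (↑e⁻¹ : Localization T) • x = x
    rw [← algebraMap_smul (Localization T) (t : B), ← he, smul_smul, Units.mul_inv, one_smul]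
  have hsm : ∀ v : N ⊗[A] X, mt.rTensor X v = (t : B) • v := fun v => by
    induction v using TensorProduct.induction_on with
    | zero => simp
    | add x y hx hy => rw [map_add, smul_add, hx, hy]
    | tmul a b => rfl
  have hzw : z = inv.rTensor X ((gG.restrictScalars A).rTensor X w) := by
    rw [show (gG.restrictScalars A).rTensor X w = mt.rTensor X z from hw.symm.trans (hsm z).symm,
      ← LinearMap.comp_apply, ← LinearMap.rTensor_comp, hinvmt, LinearMap.rTensor_id, LinearMap.id_apply]
  let v : G →ₗ[A] M := u ∘ₗ inv ∘ₗ gG.restrictScalars A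
  have hv0 : v.rTensor X w = 0 := by
    rw [LinearMap.rTensor_comp, LinearMap.rTensor_comp, LinearMap.comp_apply, LinearMap.comp_apply, ← hzw]
    exact hz
  -- the thickened fibre
  let κ := ResidueField A1
  haveI : IsLocalHom (Ideal.Quotient.mk (P.map (algebraMap A (Localization.AtPrime p)))) :=
    IsLocalHom.of_surjective _ Ideal.Quotient.mk_surjective
  let φ : p.ResidueField →+* κ := IsLocalRing.ResidueField.map (Ideal.Quotient.mk (P.map (algebraMap A (Localization.AtPrime p))))
  have hφ : Function.Bijective φ := ⟨φ.injective, fun y => by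
    obtain ⟨a, rfl⟩ := IsLocalRing.residue_surjective y
    obtain ⟨b, rfl⟩ := Ideal.Quotient.mk_surjective a
    exact ⟨IsLocalRing.residue _ b, rfl⟩⟩
  let eκ : κ ≃ₗ[A] p.ResidueField :=
    (LinearEquiv.ofBijective ({ φ with commutes' := fun _ => rfl } : p.ResidueField →ₐ[A] κ).toLinearMap hφ).symm
  have hvres : Function.Injective ((v.baseChange A1).lTensor κ) := by
    rw [RGLib.lTensor_baseChange_iff]
    show Function.Injective ((u ∘ₗ inv ∘ₗ gG.restrictScalars A).lTensor κ)
    rw [LinearMap.lTensor_comp, LinearMap.lTensor_comp, LinearMap.coe_comp, LinearMap.coe_comp]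
    refine Function.Injective.comp ?_ (Function.Injective.comp ?_ ?_)
    · intro x y hxy
      apply (eκ.rTensor N).injective
      apply h
      have := congrArg (eκ.rTensor M) hxy
      have hn : ∀ r, eκ.rTensor M (u.lTensor κ r) = u.lTensor p.ResidueField (eκ.rTensor N r) := fun r => by
        induction r using TensorProduct.induction_on with
        | zero => simp only [map_zero]
        | add a b ha hb => simp only [map_add, ha, hb]
        | tmul a b => rfl
      rwa [hn, hn] at this
    · refine Function.LeftInverse.injective (g := mt.lTensor κ) fun x => ?_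
      rw [← LinearMap.comp_apply, ← LinearMap.lTensor_comp, hmtinv, LinearMap.lTensor_id, LinearMap.id_apply]
    · exact (RGLib.lTensor_baseChange_iff (gG.restrictScalars A) κ).1
        (RGLib.lTensor_baseChange_injective_of_localized T gG hinj κ)
  have hvX := Groth.Agent.S0448.result (v.baseChange A1) hvres X
  rw [← LinearMap.lTensor_inj_iff_rTensor_inj, RGLib.lTensor_baseChange_iff,
    LinearMap.lTensor_inj_iff_rTensor_inj] at hvX
  have hw0 : w = 0 := hvX (hv0.trans (map_zero _).symm)
  rw [hzw, hw0, map_zero, map_zero]

end Groth.Agent.FlatInj
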