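import Groth.Agent.FlatInj.Spread
import Groth.Agent.FlatInj.Rebase
import Groth.Agent.RGLib.Main
import Mathlib.RingTheory.Nakayama

/-! A map from a flat finite module over an essentially finite type local algebra to a flat module which is
injective modulo the maximal ideal is universally injective. -/

set_option autoImplicit false
set_option backward.isDefEq.respectTransparency false
set_option linter.style.haveILetI false

universe u

noncomputable section

open TensorProduct IsLocalRing Pointwise

namespace Groth.Agent.FlatInj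

theorem smul_injective_of_flat {A N : Type u} [CommRing A] [IsDomain A] [AddCommGroup N] [Module A N]
    [Module.Flat A N] (a : A) (ha : a ≠ 0) (n : N) (hn : a • n = 0) : n = 0 := by
  have hi : Function.Injective ((LinearMap.lsmul A A a).rTensor N) :=
    Module.Flat.rTensor_preserves_injective_linearMap _ (mul_right_injective₀ ha)
  have h1 : (1 : A) ⊗ₜ[A] n = 0 := hi (by
    rw [map_zero, LinearMap.rTensor_tmul, LinearMap.lsmul_apply, TensorProduct.smul_tmul, hn, tmul_zero])
  simpa using congrArg (TensorProduct.lid A N) h1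

variable {A : Type u} [CommRing A] [IsLocalRing A] (B : Type u) [CommRing B] [IsLocalRing B] [Algebra A B]
  [IsLocalHom (algebraMap A B)] [Algebra.EssFiniteType A B] {N : Type u} [AddCommGroup N] [Module B N] [Module A N]
  [IsScalarTower A B N] [Module.Finite B N] {M : Type u} [AddCommGroup M] [Module A M] [Module.Flat A M]

include B

set_option maxHeartbeats 800000 in
/-- A finite flat module is a finitely presented module over a localised polynomial algebra. -/
theorem exists_poly_model [Module.Flat A N] :
    ∃ (n : ℕ) (T : Submonoid (MvPolynomial (Fin n) A)) (_ : Module (MvPolynomial (Fin n) A) N)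
      (_ : IsScalarTower A (MvPolynomial (Fin n) A) N) (_ : Module (Localization T) N)
      (_ : IsScalarTower (MvPolynomial (Fin n) A) (Localization T) N),
      Module.FinitePresentation (Localization T) N := by
  obtain ⟨n, q, _, φ, -, hφ⟩ := RGLib.exists_localization_surjection A B
  let P := MvPolynomial (Fin n) A
  let S := Localization.AtPrime q
  letI : Module S N := Module.compHom N φ.toRingHom
  haveI : IsScalarTower A S N := IsScalarTower.of_algebraMap_smul fun r x => by
    show φ (algebraMap A S r) • x = r • x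
    rw [φ.commutes, algebraMap_smul]
  letI : Algebra S B := φ.toRingHom.toAlgebra
  haveI : IsScalarTower S B N := IsScalarTower.of_algebraMap_smul fun _ _ => rfl
  haveI : Module.Finite S B := Module.Finite.of_surjective (Algebra.linearMap S B) hφ
  haveI : Module.Finite S N := Module.Finite.trans B N
  haveI : Algebra.EssFiniteType P S := Algebra.EssFiniteType.of_isLocalization S q.primeCompl
  haveI : Algebra.EssFiniteType A S := Algebra.EssFiniteType.comp A P S
  haveI : Module.FinitePresentation S N := RGLib.finitePresentation_of_flat_local (R := A) (B := S) N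
  letI : Module P N := Module.compHom N (algebraMap P S)
  haveI : IsScalarTower P S N := IsScalarTower.of_algebraMap_smul fun _ _ => rfl
  haveI : IsScalarTower A P N := IsScalarTower.of_algebraMap_smul fun r x => by
    show algebraMap P S (algebraMap A P r) • x = r • x
    rw [← IsScalarTower.algebraMap_apply, algebraMap_smul]
  exact ⟨n, q.primeCompl, inferInstance, inferInstance, inferInstance, inferInstance,
    inferInstanceAs (Module.FinitePresentation S N)⟩

theorem lTensor_injective_of_fibres [Module.Flat A N] (u : N →ₗ[A] M)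
    (h : ∀ (p : Ideal A) [p.IsPrime], Function.Injective (u.lTensor p.ResidueField))
    (Q : Type u) [AddCommGroup Q] [Module A Q] : Function.Injective (u.lTensor Q) := by
  obtain ⟨n, T, _, _, _, _, hfp⟩ := exists_poly_model (A := A) B (N := N)
  exact RGLib.lTensor_injective_of_fibres T u h Q

theorem exists_spread_flat [Module.Flat A N] (u : N →ₗ[A] M) (p : Ideal A) [p.IsPrime]
    (h : Function.Injective (u.lTensor p.ResidueField)) :
    ∃ P : Ideal A, P.FG ∧ P ≤ p ∧ ∀ (p' : Ideal A) [p'.IsPrime], P ≤ p' → p' ≤ p →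
      Function.Injective (u.lTensor p'.ResidueField) := by
  obtain ⟨n, T, _, _, _, _, hfp⟩ := exists_poly_model (A := A) B (N := N)
  exact exists_spread T u p h

set_option maxHeartbeats 800000 in
/-- In a finite flat module over a domain no nonzero element is divisible by all nonzero elements. -/
theorem eq_zero_of_divisible [IsDomain A] [Module.Flat A N] (a : A) (ham : a ∈ maximalIdeal A) (ha : a ≠ 0)
    (x : N) (hx : ∀ b ∈ maximalIdeal A, b ≠ 0 → ∃ y, b • y = x) : x = 0 := by
  let D : Submodule B N :=
    { carrier := {x | ∀ b ∈ maximalIdeal A, b ≠ 0 → ∃ y, b • y = x}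
      zero_mem' := fun b _ _ => ⟨0, smul_zero b⟩
      add_mem' := fun {x y} hx hy b hb hb0 => by
        obtain ⟨x', rfl⟩ := hx b hb hb0
        obtain ⟨y', rfl⟩ := hy b hb hb0
        exact ⟨x' + y', smul_add _ _ _⟩
      smul_mem' := fun s x hx b hb hb0 => by
        obtain ⟨x', rfl⟩ := hx b hb hb0
        exact ⟨s • x', smul_comm _ _ _⟩ }
  have hsat : ∀ c : A, c ≠ 0 → ∀ n : N, c • n ∈ D → n ∈ D := by
    intro c hc n hn b hb hb0
    obtain ⟨y, hy⟩ := hn (b * c) (Ideal.mul_mem_right _ _ hb) (mul_ne_zero hb0 hc)
    refine ⟨y, sub_eq_zero.1 (smul_injective_of_flat c hc _ ?_)⟩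
    rw [smul_sub, smul_smul, mul_comm, hy, sub_self]
  let Q := N ⧸ D
  let π : N →ₗ[A] Q := D.mkQ.restrictScalars A
  have hflatQ : Module.Flat A Q := by
    refine flat_of_torsionFree (fun c hc q hq => ?_) fun c hc X Y _ _ _ _ i hi hY => ?_
    · obtain ⟨n, rfl⟩ := Submodule.Quotient.mk_surjective D q
      rw [← Submodule.Quotient.mk_smul, Submodule.Quotient.mk_eq_zero] at hq
      rw [Submodule.Quotient.mk_eq_zero]
      exact hsat c hc n hq
    · have hX : ∀ x : X, c • x = 0 := fun x => hi (by rw [map_smul, hY, map_zero])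
      by_cases hcm : c ∈ maximalIdeal A
      · have hdiv : ∀ n, π n = 0 → ∃ y, c • y = n := fun n hn =>
          ((Submodule.Quotient.mk_eq_zero D).1 hn : n ∈ D) c hcm hc
        have hbX := lTensor_bijective_of_div π (Submodule.mkQ_surjective D) c hdiv X hX
        have hbY := lTensor_bijective_of_div π (Submodule.mkQ_surjective D) c hdiv Y hY
        have hcomm : (i.rTensor Q) ∘ (π.lTensor X) = (π.lTensor Y) ∘ (i.rTensor N) := funext fun z => by
          simp only [Function.comp_apply]
          rw [← LinearMap.comp_apply, LinearMap.rTensor_comp_lTensor, ← LinearMap.lTensor_comp_rTensor,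
            LinearMap.comp_apply]
        rw [← Function.Injective.of_comp_iff' _ hbX, hcomm]
        exact hbY.1.comp (Module.Flat.rTensor_preserves_injective_linearMap i hi)
      · have hXs : ∀ x : X, x = 0 := fun x => by
          have hu := IsLocalRing.notMem_maximalIdeal.1 hcm
          exact hu.smul_eq_zero.1 (hX x)
        have hz : ∀ z : X ⊗[A] Q, z = 0 := fun z => by
          induction z using TensorProduct.induction_on with
          | zero => rfl
          | tmul x q => rw [hXs x, zero_tmul]
          | add z w h1 h2 => rw [h1, h2, add_zero]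
        exact fun z w _ => by rw [hz z, hz w]
  haveI := hflatQ
  haveI : Module.FinitePresentation B Q := RGLib.finitePresentation_of_flat_local (R := A) (B := B) Q
  have hfg : D.FG := by
    have := Module.FinitePresentation.fg_ker D.mkQ D.mkQ_surjective
    rwa [Submodule.ker_mkQ] at this
  have hle : D ≤ Ideal.span {algebraMap A B a} • D := fun d hd => by
    obtain ⟨y, hy⟩ := hd a ham ha
    rw [← hy, ← algebraMap_smul B a y]
    exact Submodule.smul_mem_smul (Ideal.mem_span_singleton_self _) (hsat a ha y (hy.symm ▸ hd))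
  have hbot : D = ⊥ := Submodule.eq_bot_of_le_smul_of_le_jacobson_bot _ _ hfg hle (by
    rw [IsLocalRing.jacobson_eq_maximalIdeal _ bot_ne_top, Ideal.span_singleton_le_iff_mem]
    exact map_nonunit (algebraMap A B) a ham)
  exact (Submodule.mem_bot B).1 (hbot ▸ (show x ∈ D from hx))

set_option maxHeartbeats 800000 in
/-- Injectivity over a domain all of whose nonzero primes are good. -/
theorem injective_of_domain [IsDomain A] [Module.Flat A N] (u : N →ₗ[A] M)
    (hm : Function.Injective (u.lTensor (ResidueField A)))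
    (h : ∀ (p : Ideal A) [p.IsPrime], p ≠ ⊥ → Function.Injective (u.lTensor p.ResidueField)) :
    Function.Injective u := by
  by_cases hf : maximalIdeal A = ⊥
  · intro x y hxy
    have h0 : (1 : ResidueField A) ⊗ₜ[A] x = (1 : ResidueField A) ⊗ₜ[A] y := hm (by
      rw [LinearMap.lTensor_tmul, LinearMap.lTensor_tmul, hxy])
    have h1 := congrArg (TensorProduct.quotTensorEquivQuotSMul N (maximalIdeal A)) h0
    rw [show (1 : ResidueField A) = Ideal.Quotient.mk (maximalIdeal A) 1 from rfl,
      TensorProduct.quotTensorEquivQuotSMul_mk_tmul, TensorProduct.quotTensorEquivQuotSMul_mk_tmul, one_smul,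
      one_smul, Submodule.Quotient.eq, hf, Submodule.bot_smul, Submodule.mem_bot, sub_eq_zero] at h1
    exact h1
  obtain ⟨a, ham, ha⟩ := Submodule.exists_mem_ne_zero_of_ne_bot hf
  rw [injective_iff_map_eq_zero]
  intro x hx
  refine eq_zero_of_divisible B a ham ha x fun b hb hb0 => ?_
  let J : Ideal A := Ideal.span {b}
  have hJ : J ≠ ⊤ := fun e => (maximalIdeal.isMaximal A).ne_top
    (top_le_iff.1 (e.ge.trans ((Ideal.span_singleton_le_iff_mem _).2 hb)))
  obtain ⟨_, B', N', M', _, _, _, _, _, _, _, _, _, _, _, _, _, u', hu', ⟨e⟩⟩ := exists_rebase B u J hJ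
  haveI : Module.Flat (A ⧸ J) N' := Module.Flat.of_linearEquiv e
  have hall : ∀ (p : Ideal (A ⧸ J)) [p.IsPrime], Function.Injective (u'.lTensor p.ResidueField) := by
    intro p _
    refine (hu' p.ResidueField).2 ?_
    haveI : (p.comap (Ideal.Quotient.mk J)).IsPrime := Ideal.IsPrime.comap _
    refine lTensor_field_injective u p.ResidueField (p.comap (Ideal.Quotient.mk J)) ?_
      (h _ fun e0 => hb0 ?_)
    · ext r
      rw [RingHom.mem_ker, IsScalarTower.algebraMap_apply A (A ⧸ J), Ideal.algebraMap_residueField_eq_zero]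
      rfl
    · have hbp : b ∈ p.comap (Ideal.Quotient.mk J) := by
        rw [Ideal.mem_comap, Ideal.Quotient.eq_zero_iff_mem.2 (Ideal.mem_span_singleton_self b)]
        exact p.zero_mem
      rwa [e0, Ideal.mem_bot] at hbp
  have hinj : Function.Injective (u.lTensor (A ⧸ J)) :=
    (hu' (A ⧸ J)).1 (lTensor_injective_of_fibres B' u' hall (A ⧸ J))
  have h0 : (Ideal.Quotient.mk J 1) ⊗ₜ[A] x = (0 : (A ⧸ J) ⊗[A] N) := hinj (by
    rw [LinearMap.lTensor_tmul, hx, tmul_zero, map_zero])
  have h1 := congrArg (TensorProduct.quotTensorEquivQuotSMul N J) h0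
  rw [map_zero, TensorProduct.quotTensorEquivQuotSMul_mk_tmul, one_smul, Submodule.Quotient.mk_eq_zero,
    Submodule.ideal_span_singleton_smul, Submodule.mem_smul_pointwise_iff_exists] at h1
  obtain ⟨y, -, hy⟩ := h1
  exact ⟨y, hy⟩

set_option maxHeartbeats 800000 in
/-- Universal injectivity from injectivity modulo the maximal ideal. -/
theorem univInj_of_flat [Module.Flat A N] (u : N →ₗ[A] M) (hm : Function.Injective (u.lTensor (ResidueField A)))
    (Q : Type u) [AddCommGroup Q] [Module A Q] : Function.Injective (u.lTensor Q) := by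
  refine lTensor_injective_of_fibres B u (fun p hp => ?_) Q
  by_contra hbad
  let S : Set (Ideal A) := {p | ∃ hp : p.IsPrime, ¬ Function.Injective (u.lTensor p.ResidueField)}
  obtain ⟨p₀, -, hmax⟩ := zorn_le_nonempty₀ S (fun c hcS hc y hy => by
    let U : Ideal A := sSup c
    have hmem : ∀ z, z ∈ U ↔ ∃ q ∈ c, z ∈ q := fun z =>
      Submodule.mem_sSup_of_directed ⟨y, hy⟩ hc.directedOn
    haveI : U.IsPrime := by
      refine Ideal.isPrime_iff.2 ⟨fun e => ?_, fun {a b} hab => ?_⟩
      · obtain ⟨q, hq, h1⟩ := (hmem 1).1 (by rw [e]; trivial)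
        obtain ⟨hqp, -⟩ := hcS hq
        exact hqp.ne_top ((Ideal.eq_top_iff_one q).2 h1)
      · obtain ⟨q, hq, h1⟩ := (hmem _).1 hab
        obtain ⟨hqp, -⟩ := hcS hq
        exact (hqp.mem_or_mem h1).imp (fun h => (hmem a).2 ⟨q, hq, h⟩) fun h => (hmem b).2 ⟨q, hq, h⟩
    refine ⟨U, ⟨inferInstance, fun hgood => ?_⟩, fun z hz => le_sSup hz⟩
    obtain ⟨P, ⟨T, hT⟩, hPU, hsp⟩ := exists_spread_flat B u U hgood
    obtain ⟨q, hq, hTq⟩ := DirectedOn.exists_mem_subset_of_finset_subset_biUnion (f := fun i : Ideal A => (i : Set A))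
      ⟨y, hy⟩ hc.directedOn (s := T) fun z hz => by
        obtain ⟨q, hq, hzq⟩ := (hmem z).1 (hPU (hT ▸ Submodule.subset_span hz))
        exact Set.mem_biUnion hq hzq
    obtain ⟨hqp, hqbad⟩ := hcS hq
    haveI := hqp
    exact hqbad (hsp q (hT ▸ Submodule.span_le.2 hTq) (le_sSup hq))) p ⟨hp, hbad⟩
  obtain ⟨hp₀, hbad₀⟩ := hmax.prop
  haveI := hp₀
  obtain ⟨_, B', N', M', _, _, _, _, _, _, _, _, _, _, _, _, _, u', hu', ⟨e⟩⟩ :=
    exists_rebase B u p₀ hp₀.ne_top
  haveI : Module.Flat (A ⧸ p₀) N' := Module.Flat.of_linearEquiv e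
  haveI : IsDomain (A ⧸ p₀) := inferInstance
  refine hbad₀ ?_
  have hinj : Function.Injective u' := injective_of_domain B' u' ?_ ?_
  · haveI : Module.Flat (A ⧸ p₀) p₀.ResidueField :=
      IsLocalization.flat p₀.ResidueField (nonZeroDivisors (A ⧸ p₀))
    exact (hu' p₀.ResidueField).1 (Module.Flat.lTensor_preserves_injective_linearMap u' hinj)
  · refine (hu' (ResidueField (A ⧸ p₀))).2 ?_
    refine lTensor_field_injective u (ResidueField (A ⧸ p₀)) (maximalIdeal A) ?_ ?_
    · ext r
      rw [RingHom.mem_ker, IsScalarTower.algebraMap_apply A (A ⧸ p₀)]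
      exact (residue_eq_zero_iff _).trans ⟨fun hr hu => hr (hu.map (Ideal.Quotient.mk p₀)), fun hr hu => hr
        ((IsLocalHom.of_surjective (Ideal.Quotient.mk p₀) Ideal.Quotient.mk_surjective).map_nonunit r hu)⟩
    · have := lTensor_field_injective u (maximalIdeal A).ResidueField (maximalIdeal A) (by
        ext r
        rw [RingHom.mem_ker, Ideal.algebraMap_residueField_eq_zero]) ?_
      · exact this
      · exact lTensor_maximal u hm
  · intro q _ hq
    refine (hu' q.ResidueField).2 ?_
    haveI : (q.comap (Ideal.Quotient.mk p₀)).IsPrime := Ideal.IsPrime.comap _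
    refine lTensor_field_injective u q.ResidueField (q.comap (Ideal.Quotient.mk p₀)) ?_ ?_
    · ext r
      rw [RingHom.mem_ker, IsScalarTower.algebraMap_apply A (A ⧸ p₀), Ideal.algebraMap_residueField_eq_zero]
      rfl
    · by_contra hbadq
      have hle : p₀ ≤ q.comap (Ideal.Quotient.mk p₀) := fun z hz => by
        rw [Ideal.mem_comap, Ideal.Quotient.eq_zero_iff_mem.2 hz]
        exact q.zero_mem
      have := le_antisymm hle (hmax.le_of_ge ⟨inferInstance, hbadq⟩ hle)
      refine hq (le_bot_iff.1 fun z hz => ?_)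
      obtain ⟨z, rfl⟩ := Ideal.Quotient.mk_surjective z
      rw [Ideal.mem_bot, Ideal.Quotient.eq_zero_iff_mem, this]
      exact hz

end Groth.Agent.FlatInj
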